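import Groth.Agent.MiscFlat6.CounitIdeal
import Groth.Agent.QCohLib.FTCrit
import Groth.Agent.SweepSix.ConormalSpec
import Groth.Agent.ChevLib.Basic
import Groth.Prelude

/-!
# Finite type extensions of ideals from affine opens
-/

set_option autoImplicit false
universe u
open CategoryTheory CategoryTheory.Limits AlgebraicGeometry TopologicalSpace

noncomputable section

namespace GenFlatStrat

variable {S : Scheme.{u}}

theorem subschemeι_app_eq_zero_iff (E : S.IdealSheafData) (W : S.affineOpens) (y : Γ(S, W.1)) :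
    (E.subschemeι.app W.1).hom y = 0 ↔ y ∈ E.ideal W := by
  rw [← RingHom.mem_ker, E.ker_subschemeι_app]

theorem exists_idealMod_section (E : S.IdealSheafData) (W : S.affineOpens) (y : Γ(S, W.1))
    (hy : y ∈ E.ideal W) : ∃ s : Γ(ClSub.idealMod E, W.1),
      OmegaSh.fnSect S W.1 ((ClSub.idealModι E).app W.1 s) = y := by
  have h0 : (ClSub.toSubscheme E).app W.1 (y : Γ(Coh.structureModule S, W.1)) = 0 :=
    (subschemeι_app_eq_zero_iff E W y).mpr hy
  let T : ShortComplex S.Modules :=
    ShortComplex.mk (ClSub.idealModι E) (ClSub.toSubscheme E) (kernel.condition _)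
  obtain ⟨s, hs⟩ := QCohLib.exists_of_app_eq_zero (S := T)
    (ShortComplex.exact_of_f_is_kernel _ (kernelIsKernel _))
    (inferInstanceAs (Mono (kernel.ι _))) (y : Γ(Coh.structureModule S, W.1)) h0
  exact ⟨s, hs⟩

theorem idealModι_mem (E : S.IdealSheafData) (W : S.affineOpens) (s : Γ(ClSub.idealMod E, W.1)) :
    OmegaSh.fnSect S W.1 ((ClSub.idealModι E).app W.1 s) ∈ E.ideal W := by
  rw [← subschemeι_app_eq_zero_iff]
  exact congrArg (fun φ : ClSub.idealMod E ⟶ _ => φ.app W.1 s) (kernel.condition (ClSub.toSubscheme E))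

/-- Finitely many sections of an ideal sheaf lie in one of finite type. -/
theorem exists_fg_le [CompactSpace S] [QuasiSeparatedSpace S] (E : S.IdealSheafData) (W : S.affineOpens)
    (t : Finset Γ(S, W.1)) (ht : ∀ y ∈ t, y ∈ E.ideal W) :
    ∃ E' : S.IdealSheafData, (∀ V, (E'.ideal V).FG) ∧ E' ≤ E ∧ ∀ y ∈ t, y ∈ E'.ideal W := by
  haveI := SweepSix.ConormalSpec.isQCoh_idealMod E
  choose! s hs using fun y hy => exists_idealMod_section E W y (ht y hy)
  obtain ⟨G, j, _, _, hft, hgen⟩ := QCohLib.exists_ft_through_finset (K := ClSub.idealMod E) t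
    (fun _ => W.1) (fun _ => W.2) s
  refine ⟨MiscFlat6.idealOfSub (j ≫ ClSub.idealModι E),
    MiscFlat6.isFiniteTypeIdeal_idealOfSub hft _, fun V => ?_, fun y hy => ?_⟩
  · rintro _ ⟨a, rfl⟩
    exact idealModι_mem E V (j.app V.1 a)
  · obtain ⟨g, hg⟩ := hgen y hy
    refine ⟨g, ?_⟩
    show OmegaSh.fnSect S W.1 ((ClSub.idealModι E).app W.1 (j.app W.1 g)) = y
    rw [hg, hs y hy]

/-- A finitely generated ideal on an affine open extends to an ideal sheaf of finite type. -/
theorem exists_fg_extend [CompactSpace S] [QuasiSeparatedSpace S] (W : S.affineOpens) (J : Ideal Γ(S, W.1))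
    (hJ : J.FG) : ∃ E : S.IdealSheafData, (∀ V, (E.ideal V).FG) ∧ E.ideal W = J := by
  obtain ⟨t, rfl⟩ := hJ
  obtain ⟨E, hE, hle, hmem⟩ := exists_fg_le (ChevLib.extendIdeal W (Ideal.span t)) W t fun y hy => by
    rw [ChevLib.extendIdeal_ideal_self]
    exact Ideal.subset_span hy
  refine ⟨E, hE, le_antisymm ?_ (Ideal.span_le.mpr fun y hy => hmem y hy)⟩
  exact (hle W).trans (ChevLib.extendIdeal_ideal_self W _).le

end GenFlatStrat
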