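import Groth.Agent.GenFlatStrat.FGExtend
import Groth.Agent.RichLib.ModFlatLimit
import Groth.Agent.RichLib.PointStrata
import Groth.Agent.CMFlatLib.BaseChangeScheme

/-!
# A stratum of flatness through every point
-/

set_option autoImplicit false
set_option linter.style.haveILetI false
universe u
open CategoryTheory CategoryTheory.Limits AlgebraicGeometry TopologicalSpace Topology Opposite

noncomputable section

namespace GenFlatStrat

variable {X S : Scheme.{u}} (f : X ⟶ S) (F : X.Modules)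

theorem isFlatOverAt_field {K : Type u} [Field K] {P : Scheme.{u}} (q : P ⟶ Spec (CommRingCat.of K))
    (M : P.Modules) (x : P) : FlatMod.IsFlatOverAt q M x := by
  letI := FlatMod.moduleStalkOver q M x
  show Module.Flat ((Spec (CommRingCat.of K)).presheaf.stalk (q.base x)) (M.presheaf.stalk x)
  letI := (CMFlatLib.isField_stalk (k := K) (q.base x)).toField
  exact Module.Flat.of_free

/-- Flatness over an affine chart transfers to an open part of the target. -/
theorem flatAt_transfer [LocallyOfFinitePresentation f] [Coh.IsQCoh F] (hF : CohB1.IsFP F)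
    {U : S.Opens} (hU : IsAffineOpen U) {T : Scheme.{u}} [IsAffine T] (t : T ⟶ U.toScheme)
    (hflat : FlatMod.IsFlatOver (pullback.snd (pullback.snd f U.ι) t)
      ((Scheme.Modules.pullback (pullback.fst (pullback.snd f U.ι) t)).obj
        ((Scheme.Modules.pullback (pullback.fst f U.ι)).obj F)))
    {Z N : Scheme.{u}} [IsAffine N] (tS : Z ⟶ S) (l : N ⟶ Z) [IsOpenImmersion l] (n : N ⟶ U.toScheme)
    (g : N ⟶ T) (hg : g ≫ t = n) (e : n ≫ U.ι = l ≫ tS)
    (x : ↥(pullback f tS)) (hx : (pullback.snd f tS).base x ∈ Set.range l) :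
    FlatMod.IsFlatOverAt (pullback.snd f tS) ((Scheme.Modules.pullback (pullback.fst f tS)).obj F) x := by
  haveI : IsAffine U.toScheme := hU
  let f' := pullback.snd f U.ι
  let M' := (Scheme.Modules.pullback (pullback.fst f U.ι)).obj F
  haveI : Coh.IsQCoh M' := KFlatLib.isQCoh_pullback (pullback.fst f U.ι) F
  haveI : IsAffineHom t := isAffineHom_of_isAffine t
  haveI : IsAffineHom n := isAffineHom_of_isAffine n
  let m : pullback f' n ⟶ pullback f' t := pullback.lift (pullback.fst f' n) (pullback.snd f' n ≫ g)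
    (by rw [pullback.condition, Category.assoc, hg])
  have hfl : ∀ y : ↥(pullback f' n), FlatMod.IsFlatOverAt (pullback.snd f' n)
      ((Scheme.Modules.pullback (pullback.fst f' n)).obj M') y := fun y =>
    RichLib.ModFlat.isFlatOverAt_baseChange f' M' (RichLib.ModFlat.isFP_pullback _ hF) t g n hg m
      (pullback.lift_fst _ _ _) (pullback.lift_snd _ _ _) y (hflat (m y))
  let j : pullback f' n ⟶ pullback f tS :=
    pullback.lift (pullback.fst f' n ≫ pullback.fst f U.ι) (pullback.snd f' n ≫ l) (by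
      rw [Category.assoc, pullback.condition (f := f) (g := U.ι), Category.assoc, ← e,
        reassoc_of% (pullback.condition (f := f') (g := n))])
  have hj₁ : j ≫ pullback.fst f tS = pullback.fst f' n ≫ pullback.fst f U.ι := pullback.lift_fst _ _ _
  have hj₂ : j ≫ pullback.snd f tS = pullback.snd f' n ≫ l := pullback.lift_snd _ _ _
  have hsq : IsPullback j (pullback.snd f' n) (pullback.snd f tS) l := by
    refine IsPullback.of_right ?_ hj₂ (IsPullback.of_hasPullback f tS)
    rw [hj₁, ← e]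
    exact (IsPullback.of_hasPullback f' n).paste_horiz (IsPullback.of_hasPullback f U.ι)
  haveI : IsOpenImmersion j := MorphismProperty.of_isPullback hsq.flip ‹IsOpenImmersion l›
  obtain ⟨y, rfl⟩ : x ∈ Set.range j := by
    have h1 : x ∈ Set.range (pullback.fst (pullback.snd f tS) l) := by
      rw [Scheme.Pullback.range_fst]; exact hx
    obtain ⟨w, rfl⟩ := h1
    exact ⟨hsq.isoPullback.inv.base w, by rw [← Scheme.Hom.comp_apply, hsq.isoPullback_inv_fst]⟩
  refine (RichLib.ModFlat.isFlatOverAt_congr j l hj₂.symm ?_ y).mp (hfl y)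
  exact (Scheme.Modules.pullbackComp _ _).app F ≪≫ (Scheme.Modules.pullbackCongr hj₁.symm).app F ≪≫
    ((Scheme.Modules.pullbackComp _ _).app F).symm

theorem isConstructible_of_affine [CompactSpace S] [QuasiSeparatedSpace S] {W : S.Opens}
    (hW : IsAffineOpen W) : IsConstructible (W : Set S) :=
  (QuasiSeparatedSpace.isRetrocompact_iff_isCompact W.2).mpr hW.isCompact |>.isConstructible W.2

/-- The flatness stratum through a point. -/
theorem exists_piece [CompactSpace S] [QuasiSeparatedSpace S] [LocallyOfFinitePresentation f]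
    [QuasiCompact f] [Coh.IsQCoh F] (hF : CohB1.IsFP F) (s : S) :
    ∃ (W : S.affineOpens) (E : S.IdealSheafData), (∀ V, (E.ideal V).FG) ∧ s ∈ W.1 ∧ s ∈ E.support ∧
      IsConstructible ((W.1 : Set S) ∩ E.support) ∧
      ∀ {Z N : Scheme.{u}} [IsAffine N] (tS : Z ⟶ S) (l : N ⟶ Z) [IsOpenImmersion l]
        (hle : (⊤ : N.Opens) ≤ (l ≫ tS) ⁻¹ᵁ W.1),
        (∀ y ∈ E.ideal W, ((l ≫ tS).appLE W.1 ⊤ hle).hom y = 0) →
        ∀ x : ↥(pullback f tS), (pullback.snd f tS).base x ∈ Set.range l →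
          FlatMod.IsFlatOverAt (pullback.snd f tS) ((Scheme.Modules.pullback (pullback.fst f tS)).obj F) x := by
  classical
  obtain ⟨U, hU, hsU, -⟩ := exists_isAffineOpen_mem_and_subset (X := S) (x := s) (U := ⊤) trivial
  haveI : IsAffine U.toScheme := hU
  let f' := pullback.snd f U.ι
  let M' := (Scheme.Modules.pullback (pullback.fst f U.ι)).obj F
  haveI : Coh.IsQCoh M' := KFlatLib.isQCoh_pullback (pullback.fst f U.ι) F
  haveI : CompactSpace ↥(pullback f U.ι) := QuasiCompact.compactSpace_of_compactSpace f'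
  let q := hU.primeIdealOf ⟨s, hsU⟩
  let Sy := RichLib.Strata.sys Γ(S, U) hU.isoSpec q.asIdeal
  obtain ⟨k, hk⟩ := RichLib.ModFlat.exists_isFlatOver_stage Sy f' M' (RichLib.ModFlat.isFP_pullback _ hF)
    fun x => isFlatOverAt_field (K := q.asIdeal.ResidueField) (pullback.snd f' Sy.s) _ x
  let I := k.unop.I
  let a := k.unop.elt
  let W : S.affineOpens := ⟨S.basicOpen a, hU.basicOpen a⟩
  let res : Γ(S, U) →+* Γ(S, W.1) := (S.presheaf.map (homOfLE (S.basicOpen_le a)).op).hom
  obtain ⟨E, hE, hEW⟩ := exists_fg_extend W (I.map res) (Ideal.FG.map k.unop.fg res)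
  have hmem : ∀ x : Γ(S, U), x ∈ q.asIdeal ↔ s ∉ S.basicOpen x := fun x => by
    have h1 : q ∈ hU.fromSpec ⁻¹ᵁ S.basicOpen x ↔ s ∈ S.basicOpen x := by
      show hU.fromSpec.base q ∈ S.basicOpen x ↔ _
      rw [show hU.fromSpec.base q = s from hU.fromSpec_primeIdealOf ⟨s, hsU⟩]
    rw [hU.fromSpec_preimage_basicOpen] at h1
    rw [← h1]
    exact not_not.symm
  have hsW : s ∈ W.1 := by
    by_contra h
    exact k.unop.elt_notMem ((hmem a).mpr h)
  have hsE : s ∈ E.support := by
    rw [Scheme.IdealSheafData.mem_support_iff_of_mem hsW, hEW, Scheme.mem_zeroLocus_iff]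
    intro y hy
    have hle : I.map res ≤ (IsLocalRing.maximalIdeal (S.presheaf.stalk s)).comap
        (S.presheaf.germ W.1 s hsW).hom := Ideal.map_le_iff_le_comap.mpr fun x hx => by
      rw [Ideal.mem_comap, Ideal.mem_comap, IsLocalRing.mem_maximalIdeal, mem_nonunits_iff]
      show ¬ IsUnit ((S.presheaf.map (homOfLE (S.basicOpen_le a)).op ≫ S.presheaf.germ W.1 s hsW) x)
      rw [TopCat.Presheaf.germ_res, ← S.mem_basicOpen x s hsU]
      exact (hmem x).mp (k.unop.le hx)
    rw [S.mem_basicOpen y s hsW]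
    exact (IsLocalRing.mem_maximalIdeal _).mp (hle hy)
  refine ⟨W, E, hE, hsW, hsE, ?_, ?_⟩
  · obtain ⟨T, hT⟩ := Ideal.FG.map k.unop.fg res
    have h1 : (W.1 : Set S) ∩ E.support = (W.1 : Set S) \ ⋃ y ∈ T, (S.basicOpen y : Set S) := by
      rw [Set.inter_comm, Scheme.IdealSheafData.coe_support_inter, hEW, ← hT, Scheme.zeroLocus_span]
      ext z
      rw [Set.mem_inter_iff, Scheme.mem_zeroLocus_iff, Set.mem_sdiff, Set.mem_iUnion₂]
      exact ⟨fun h => ⟨h.2, fun ⟨y, hy, hz⟩ => h.1 y hy hz⟩,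
        fun h => ⟨fun y hy hz => h.2 ⟨y, hy, hz⟩, h.1⟩⟩
    rw [h1]
    exact (isConstructible_of_affine W.2).sdiff
      (IsConstructible.biUnion (Finset.finite_toSet T) fun y _ => isConstructible_of_affine (W.2.basicOpen y))
  · intro Z N _ tS l _ hle hzero
    have hleU : (⊤ : N.Opens) ≤ (l ≫ tS) ⁻¹ᵁ U :=
      hle.trans ((l ≫ tS).preimage_mono (S.basicOpen_le a))
    let φ : Γ(S, U) →+* Γ(N, ⊤) := ((l ≫ tS).appLE U ⊤ hleU).hom
    have hφ : ∀ x, φ x = ((l ≫ tS).appLE W.1 ⊤ hle).hom (res x) := fun x => by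
      show _ = (S.presheaf.map (homOfLE (S.basicOpen_le a)).op ≫ (l ≫ tS).appLE W.1 ⊤ hle) x
      rw [Scheme.Hom.map_appLE]
    have hI : ∀ x ∈ I, φ x = 0 := fun x hx => by
      rw [hφ]
      exact hzero _ (by rw [hEW]; exact Ideal.mem_map_of_mem res hx)
    have hu : IsUnit (Ideal.Quotient.lift I φ hI (Ideal.Quotient.mk I a)) := by
      rw [Ideal.Quotient.lift_mk, hφ]
      exact (RingedSpace.isUnit_res_basicOpen _ a).map _
    let ψ : k.unop.B →+* Γ(N, ⊤) := IsLocalization.Away.lift (Ideal.Quotient.mk I a) hu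
    have hψ : ψ.comp (algebraMap Γ(S, U) k.unop.B) = φ := RingHom.ext fun x => by
      rw [RingHom.comp_apply, RichLib.Strata.algebraMap_B]
      exact IsLocalization.Away.lift_eq _ hu _
    let n : N ⟶ U.toScheme := IsOpenImmersion.lift U.ι (l ≫ tS) (by
      rw [U.range_ι]
      rintro _ ⟨z, rfl⟩
      exact hleU (x := z) trivial)
    have hn : n ≫ U.ι = l ≫ tS := IsOpenImmersion.lift_fac _ _ _
    haveI : IsAffine (Spec (CommRingCat.of k.unop.B)) := inferInstance
    refine flatAt_transfer f F hF hU (T := Spec (CommRingCat.of k.unop.B)) (Sy.t k) hk tS l n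
      (N.isoSpec.hom ≫ Spec.map (CommRingCat.ofHom ψ)) ?_ hn
    rw [← cancel_mono U.ι, hn]
    show (_ ≫ Spec.map (CommRingCat.ofHom (algebraMap Γ(S, U) k.unop.B)) ≫ hU.isoSpec.inv) ≫ U.ι = _
    simp only [Category.assoc]
    rw [hU.isoSpec_inv_ι, ← Spec.map_comp_assoc, ← CommRingCat.ofHom_comp, hψ]
    have h2 := IsAffineOpen.SpecMap_appLE_fromSpec (l ≫ tS) hU (isAffineOpen_top N) hleU
    rw [IsAffineOpen.fromSpec_top] at h2
    exact (congrArg (N.isoSpec.hom ≫ ·) h2).trans (by simp)

end GenFlatStrat
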