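import Mathlib.AlgebraicGeometry.IdealSheaf.Basic

/-!
# The chain of ideal sheaves attached to a finite family of ideal sheaves
-/

set_option autoImplicit false
universe u
open CategoryTheory AlgebraicGeometry TopologicalSpace

noncomputable section

namespace GenFlatStrat

variable {S : Scheme.{u}} {κ : Type} [Fintype κ] (E : κ → S.IdealSheafData)

/-- The sum of the members of a subfamily. -/
def sigma (A : Finset κ) : S.IdealSheafData := A.sup E

/-- The ideal sheaf of the points lying on at least `l` members. -/
def level (l : ℕ) : S.IdealSheafData := ∏ A ∈ Finset.univ.powersetCard l, sigma E A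

/-- The increasing chain. -/
def chain (i : ℕ) : S.IdealSheafData := (Finset.range (i + 1)).sup (level E)

/-- Evaluation at an affine open, as a monoid homomorphism. -/
def idealHom (V : S.affineOpens) : S.IdealSheafData →* Ideal Γ(S, V.1) where
  toFun E := E.ideal V
  map_one' := Ideal.one_eq_top.symm
  map_mul' _ _ := rfl

theorem fg_finset_sup {α : Type} (A : Finset α) (E : α → S.IdealSheafData) (V : S.affineOpens)
    (h : ∀ a ∈ A, ((E a).ideal V).FG) : ((A.sup E).ideal V).FG := by
  classical
  induction A using Finset.induction_on with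
  | empty => exact Submodule.fg_bot
  | insert a A _ ih =>
    rw [Finset.sup_insert]
    exact Submodule.FG.sup (h a (Finset.mem_insert_self a A)) (ih fun b hb => h b (Finset.mem_insert_of_mem hb))

theorem chain_mono : Monotone (chain E) := fun _ _ h =>
  Finset.sup_mono (Finset.range_mono (Nat.add_le_add_right h 1))

theorem chain_fg (hE : ∀ k V, ((E k).ideal V).FG) (i : ℕ) (V : S.affineOpens) : ((chain E i).ideal V).FG := by
  refine fg_finset_sup _ _ V fun l _ => ?_
  show (idealHom V (level E l)).FG
  rw [level, map_prod]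
  refine Finset.prod_induction _ (fun J : Ideal Γ(S, V.1) => J.FG) (fun _ _ h h' => Submodule.FG.mul h h') ?_
    fun A _ => fg_finset_sup A E V fun k _ => hE k V
  show (1 : Ideal Γ(S, V.1)).FG
  rw [Ideal.one_eq_top]
  exact ⟨{1}, by rw [Finset.coe_singleton, Ideal.span_singleton_one]⟩

theorem mem_support_sup {α : Type} (A : Finset α) (E : α → S.IdealSheafData) (z : S) :
    z ∈ (A.sup E).support ↔ ∀ a ∈ A, z ∈ (E a).support := by
  classical
  induction A using Finset.induction_on with
  | empty =>
    refine ⟨fun _ a ha => absurd ha (Finset.notMem_empty a), fun _ => ?_⟩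
    simp only [Finset.sup_empty, Scheme.IdealSheafData.support_bot]
    exact trivial
  | insert a A _ ih =>
    rw [Finset.sup_insert, Scheme.IdealSheafData.support_sup, Finset.forall_mem_insert, ← ih]
    rfl

theorem mem_support_prod {α : Type} (A : Finset α) (E : α → S.IdealSheafData) (z : S) :
    z ∈ (∏ a ∈ A, E a).support ↔ ∃ a ∈ A, z ∈ (E a).support := by
  classical
  induction A using Finset.induction_on with
  | empty =>
    simp only [Finset.prod_empty, Finset.notMem_empty, false_and, exists_false, iff_false]
    exact fun h => (h : z ∈ (⊥ : Closeds S))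
  | insert a A ha ih =>
    rw [Finset.prod_insert ha]
    change z ∈ (E a).support ∨ z ∈ (∏ a ∈ A, E a).support ↔ _
    rw [ih]
    simp

open Classical in
/-- The members through a point. -/
def pattern (z : S) : Finset κ := Finset.univ.filter fun k => z ∈ (E k).support

theorem mem_support_chain (i : ℕ) (z : S) : z ∈ (chain E i).support ↔ i ≤ (pattern E z).card := by
  classical
  have key : ∀ l, z ∈ (level E l).support ↔ l ≤ (pattern E z).card := fun l => by
    rw [level, mem_support_prod]
    constructor
    · rintro ⟨A, hA, hz⟩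
      obtain ⟨-, rfl⟩ := Finset.mem_powersetCard.mp hA
      refine Finset.card_le_card fun k hk => Finset.mem_filter.mpr ⟨Finset.mem_univ _, ?_⟩
      exact (mem_support_sup A E z).mp hz k hk
    · intro h
      obtain ⟨A, hA, hc⟩ := Finset.exists_subset_card_eq h
      exact ⟨A, Finset.mem_powersetCard.mpr ⟨Finset.subset_univ _, hc⟩,
        (mem_support_sup A E z).mpr fun k hk => (Finset.mem_filter.mp (hA hk)).2⟩
  rw [chain, mem_support_sup]
  simp only [key, Finset.mem_range]
  exact ⟨fun h => h i (Nat.lt_succ_self i), fun h l hl => (Nat.le_of_lt_succ hl).trans h⟩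

theorem chain_top : chain E (Fintype.card κ + 1) = ⊤ := by
  refine top_le_iff.mp ?_
  refine le_trans ?_ (Finset.le_sup (f := level E) (Finset.mem_range.mpr (Nat.lt_succ_self _)))
  rw [level, Finset.powersetCard_eq_empty.mpr (by simp), Finset.prod_empty]
  exact le_refl _

theorem support_chain_zero : ((chain E 0).support : Set S) = Set.univ :=
  Set.eq_univ_of_forall fun z => (mem_support_chain E 0 z).mpr (Nat.zero_le _)

theorem ideal_eq_top_of_disjoint (J : S.IdealSheafData) (N : S.affineOpens)
    (h : ∀ z ∈ N.1, z ∉ J.support) : J.ideal N = ⊤ := by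
  by_contra hne
  obtain ⟨q, hq, hle⟩ := Ideal.exists_le_maximal _ hne
  let p : PrimeSpectrum Γ(S, N.1) := ⟨q, hq.isPrime⟩
  have hz : N.2.fromSpec.base p ∈ N.1 := by
    have h1 : N.2.fromSpec.base p ∈ Set.range N.2.fromSpec := ⟨p, rfl⟩
    rwa [N.2.range_fromSpec] at h1
  refine h _ hz ((Scheme.IdealSheafData.mem_support_iff_of_mem hz).mpr ?_)
  have h2 : p ∈ N.2.fromSpec ⁻¹' S.zeroLocus (U := N.1) (J.ideal N : Set Γ(S, N.1)) := by
    rw [N.2.fromSpec_preimage_zeroLocus]
    exact hle
  exact h2

/-- Near a point lying on exactly `i` members the `i`-th ideal contains each of them. -/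
theorem ideal_le_chain (N : S.affineOpens) (P : Finset κ) (hN : ∀ z ∈ N.1, ∀ k, k ∉ P → z ∉ (E k).support)
    {j : κ} (hj : j ∈ P) : (E j).ideal N ≤ (chain E P.card).ideal N := by
  classical
  have h1 : (level E P.card).ideal N ≤ (chain E P.card).ideal N :=
    (Finset.le_sup (f := level E) (Finset.mem_range.mpr (Nat.lt_succ_self _))) N
  refine le_trans ?_ h1
  show _ ≤ idealHom N (level E P.card)
  rw [level, map_prod, Finset.prod_eq_single P]
  · exact (Finset.le_sup (f := E) hj) N
  · intro B hB hne
    obtain ⟨-, hc⟩ := Finset.mem_powersetCard.mp hB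
    obtain ⟨k, hkB, hkP⟩ : ∃ k ∈ B, k ∉ P := by
      by_contra hcon
      push Not at hcon
      exact hne (Finset.eq_of_subset_of_card_le hcon hc.ge)
    rw [Ideal.one_eq_top]
    refine top_le_iff.mp ((ideal_eq_top_of_disjoint (E k) N fun z hz => hN z hz k hkP).ge.trans ?_)
    exact (Finset.le_sup (f := E) hkB) N
  · exact fun h => absurd (Finset.mem_powersetCard.mpr ⟨Finset.subset_univ _, rfl⟩) h

end GenFlatStrat
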