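import Groth.Agent.GenFlatStrat.Piece
import Groth.Agent.GenFlatStrat.Chain
import Groth.Agent.WeightLib.Constr

/-!
# Generic flatness stratification
-/

set_option autoImplicit false
universe u
open CategoryTheory CategoryTheory.Limits AlgebraicGeometry TopologicalSpace

noncomputable section

namespace GenFlatStrat

variable {X S : Scheme.{u}}

theorem exists_stratification (f : X ⟶ S) [LocallyOfFinitePresentation f] [QuasiCompact f]
    [CompactSpace S] [QuasiSeparatedSpace S] (F : X.Modules) [Coh.IsQCoh F] (hF : CohB1.IsFP F) :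
    ∃ (t : ℕ) (I : Fin (t + 1) → S.IdealSheafData), Monotone I ∧ I (Fin.last t) = ⊤ ∧
      ((I 0).support : Set S) = Set.univ ∧ (∀ i, ∀ U : S.affineOpens, ((I i).ideal U).FG) ∧
      ∀ i : Fin t, FlatMod.IsFlatOver
        (pullback.snd f (((I i.castSucc).subschemeι ⁻¹ᵁ (I i.succ).support.compl).ι ≫ (I i.castSucc).subschemeι))
        ((Scheme.Modules.pullback (pullback.fst f (((I i.castSucc).subschemeι ⁻¹ᵁ (I i.succ).support.compl).ι ≫
          (I i.castSucc).subschemeι))).obj F) := by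
  classical
  choose W E hE hsW hsE hC hgood using fun s => exists_piece f F hF s
  obtain ⟨G, hG⟩ := WeightLib.exists_finset_cover (fun s => ((W s).1 : Set S) ∩ (E s).support) hC
    fun s => ⟨s, hsW s, hsE s⟩
  let σ := G.equivFin.symm
  let E' : Fin G.card → S.IdealSheafData := fun j => E (σ j)
  refine ⟨G.card + 1, fun i => chain E' i, fun a b h => chain_mono E' h, ?_, support_chain_zero E',
    fun i U => chain_fg E' (fun j => hE _) i U, fun i x => ?_⟩
  · show chain E' (G.card + 1) = ⊤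
    simpa using chain_top E'
  let I : S.IdealSheafData := chain E' i
  let J : S.IdealSheafData := chain E' (i + 1)
  let Zo : I.subscheme.Opens := I.subschemeι ⁻¹ᵁ J.support.compl
  let tS : Zo.toScheme ⟶ S := Zo.ι ≫ I.subschemeι
  let ζ : Zo.toScheme := (pullback.snd f tS).base x
  let z : S := tS.base ζ
  have hzI : z ∈ I.support := by
    show z ∈ (I.support : Set S)
    rw [← I.range_subschemeι]
    exact ⟨Zo.ι.base ζ, (Scheme.Hom.comp_apply _ _ _).symm⟩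
  have hzJ : z ∉ J.support := fun h => by
    have h1 : Zo.ι.base ζ ∈ Zo := ζ.2
    exact h1 (by show I.subschemeι.base (Zo.ι.base ζ) ∈ J.support; rwa [← Scheme.Hom.comp_apply])
  rw [mem_support_chain] at hzI hzJ
  let P := pattern E' z
  have hcard : P.card = (i : ℕ) := by
    change (i : ℕ) ≤ P.card at hzI
    change ¬ (i : ℕ) + 1 ≤ P.card at hzJ
    omega
  obtain ⟨s, hs, hzW, hzE⟩ : ∃ s ∈ G, z ∈ (W s).1 ∧ z ∈ (E s).support := by
    obtain ⟨s, hs, h1, h2⟩ := hG z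
    exact ⟨s, hs, h1, h2⟩
  let j : Fin G.card := G.equivFin ⟨s, hs⟩
  have hσj : (σ j : S) = s := by simp [σ, j]
  have hjP : j ∈ P := Finset.mem_filter.mpr ⟨Finset.mem_univ _, by show z ∈ (E (σ j)).support; rw [hσj]; exact hzE⟩
  let O : S.Opens := ⟨((W s).1 : Set S) ∩ ⋂ k ∈ Finset.univ \ P, ((E' k).support : Set S)ᶜ,
    (W s).1.2.inter (isOpen_biInter_finset fun k _ => (E' k).support.isClosed.isOpen_compl)⟩
  have hzO : z ∈ O := ⟨hzW, Set.mem_iInter₂.mpr fun k hk hkz => (Finset.mem_sdiff.mp hk).2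
    (Finset.mem_filter.mpr ⟨Finset.mem_univ _, hkz⟩)⟩
  obtain ⟨N₀, hN₀, hzN₀, hN₀O⟩ := exists_isAffineOpen_mem_and_subset (X := S) (x := z) (U := O) hzO
  obtain ⟨N, hN, hζN, hNN₀⟩ := exists_isAffineOpen_mem_and_subset (X := Zo.toScheme) (x := ζ)
    (U := tS ⁻¹ᵁ N₀) hzN₀
  haveI : IsAffine N.toScheme := hN
  have hN₀W : N₀ ≤ (W s).1 := fun y hy => (hN₀O hy).1
  have hle₀ : (⊤ : N.toScheme.Opens) ≤ (N.ι ≫ tS) ⁻¹ᵁ N₀ := fun y _ => by
    show (N.ι ≫ tS).base y ∈ N₀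
    rw [Scheme.Hom.comp_apply]
    exact hNN₀ y.2
  refine hgood s tS N.ι (hle₀.trans ((N.ι ≫ tS).preimage_mono hN₀W)) (fun y hy => ?_) x
    (by rw [N.range_ι]; exact hζN)
  let res := S.presheaf.map (homOfLE hN₀W).op
  have h1 : res y ∈ (E' j).ideal ⟨N₀, hN₀⟩ := by
    show _ ∈ (E (σ j)).ideal _
    rw [hσj, ← (E s).map_ideal (U := ⟨N₀, hN₀⟩) (V := W s) hN₀W]
    exact Ideal.mem_map_of_mem _ hy
  have h2 : res y ∈ I.ideal ⟨N₀, hN₀⟩ := by
    have := ideal_le_chain E' ⟨N₀, hN₀⟩ P (fun w hw k hk hwk =>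
      Set.mem_iInter₂.mp (hN₀O hw).2 k (Finset.mem_sdiff.mpr ⟨Finset.mem_univ _, hk⟩) hwk) hjP h1
    rwa [hcard] at this
  rw [← Scheme.IdealSheafData.ker_subschemeι_app, RingHom.mem_ker] at h2
  have hfac : N.ι ≫ tS = (N.ι ≫ Zo.ι) ≫ I.subschemeι := (Category.assoc _ _ _).symm
  have key : ∀ (n : N.toScheme ⟶ S), n = (N.ι ≫ Zo.ι) ≫ I.subschemeι →
      ∀ (e₀ : (⊤ : N.toScheme.Opens) ≤ n ⁻¹ᵁ N₀), (n.appLE N₀ ⊤ e₀).hom (res y) = 0 := by
    rintro _ rfl e₀
    rw [Scheme.Hom.comp_appLE]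
    show ((N.ι ≫ Zo.ι).appLE (I.subschemeι ⁻¹ᵁ N₀) ⊤ _).hom ((I.subschemeι.app N₀).hom (res y)) = 0
    erw [h2]
    exact map_zero _
  have h3 := key _ hfac hle₀
  have h4 : (res ≫ (N.ι ≫ tS).appLE N₀ ⊤ hle₀).hom y = 0 := h3
  rwa [Scheme.Hom.map_appLE] at h4

end GenFlatStrat
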